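/-
No shifts in symmetric, symplectic and unitary groups with their transposition classes.
-/
import Cfsg.Agent.H88.Disc.Defs
import Cfsg.Agent.H34.FiM4.Unit
import Cfsg.Agent.S0440
import Cfsg.Agent.H48.Form

set_option autoImplicit false
set_option linter.unusedSectionVars false

namespace H34.Disc

open Cfsg Matrix
open H5.TT

universe u

variable {X : Type u} [Group X] {E : Set X}

/-- Every involution fixes a transposition. -/
theorem sym_fixed {n : ℕ} (hn : 3 ≤ n) (σ : Equiv.Perm (Fin n)) (h : σ * σ = 1) :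
    ∃ τ : Equiv.Perm (Fin n), τ.IsSwap ∧ σ * τ * σ⁻¹ = τ := by
  by_cases h1 : σ = 1
  · subst h1
    refine ⟨Equiv.swap ⟨0, by omega⟩ ⟨1, by omega⟩, ⟨_, _, by simp, rfl⟩, by simp⟩
  · obtain ⟨i, hi⟩ : ∃ i, σ i ≠ i := by
      by_contra hno
      push Not at hno
      exact h1 (Equiv.ext hno)
    refine ⟨Equiv.swap i (σ i), ⟨i, σ i, fun h => hi h.symm, rfl⟩, ?_⟩
    have h2 : σ (σ i) = i := by rw [← Equiv.Perm.mul_apply, h]; rfl
    rw [← Equiv.swap_apply_apply, h2, Equiv.swap_comm]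

/-- Every involution fixes a symplectic transvection. -/
theorem sp_fixed {m : ℕ} (hm : 1 ≤ m) (σ : Matrix.symplecticGroup (Fin m) (ZMod 2)) (h : σ * σ = 1) :
    ∃ v : Fin m ⊕ Fin m → ZMod 2, v ≠ 0 ∧ σ * H48.tv v 1 * σ⁻¹ = H48.tv v 1 := by
  have hadd : ∀ x : Fin m ⊕ Fin m → ZMod 2, x + x = 0 := fun x =>
    funext fun i => (show ∀ a : ZMod 2, a + a = 0 by decide) (x i)
  obtain ⟨v, hv0, hv⟩ : ∃ v : Fin m ⊕ Fin m → ZMod 2, v ≠ 0 ∧ σ • v = v := by
    by_cases hall : ∀ x : Fin m ⊕ Fin m → ZMod 2, σ • x = x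
    · exact ⟨Pi.single (Sum.inl ⟨0, hm⟩) 1, fun h => by simpa using congrFun h (Sum.inl ⟨0, hm⟩),
        hall _⟩
    · push Not at hall
      obtain ⟨x, hx⟩ := hall
      refine ⟨σ • x + x, fun h0 => hx ?_, ?_⟩
      · calc σ • x = σ • x + (x + x) := by rw [hadd, add_zero]
          _ = x := by rw [← add_assoc, h0, zero_add]
      · rw [smul_add, ← mul_smul, h, one_smul, add_comm]
  exact ⟨v, hv0, by rw [H48.tv_conj, hv]⟩

variable {F : Type} [Field F] [Fintype F] {n : ℕ} (hF : Fintype.card F = 2 ^ 2)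
include hF

open H50

theorem exists_isotropic_of_two {W : Submodule F (Fin n → F)} (hW : 2 ≤ Module.finrank F W) :
    ∃ v ∈ W, v ≠ 0 ∧ hermForm n F 2 v v = 0 := by
  by_contra hno
  push Not at hno
  have hone : ∀ v ∈ W, v ≠ 0 → hermForm n F 2 v v = 1 := fun v hv h0 =>
    (U2.self01 hF v).resolve_left (hno v hv h0)
  obtain ⟨f, hf⟩ := exists_linearIndependent_of_le_finrank hW
  have hf' : LinearIndependent F (fun i => (f i : Fin n → F)) :=
    hf.map' W.subtype W.ker_subtype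
  set u : Fin n → F := (f 0 : Fin n → F) with hu
  set w : Fin n → F := (f 1 : Fin n → F) with hw
  have hu0 : u ≠ 0 := hf'.ne_zero 0
  have hw0 : w ≠ 0 := hf'.ne_zero 1
  obtain ⟨c, hc0, hc⟩ : ∃ c : F, c ≠ 0 ∧
      c ^ 2 * hermForm n F 2 u w + (c ^ 2 * hermForm n F 2 u w) ^ 2 = 0 := by
    by_cases ha : hermForm n F 2 u w = 0
    · exact ⟨1, one_ne_zero, by rw [ha]; ring⟩
    · obtain ⟨c, hc⟩ := (H34.FiM4.sq_bijective hF).2 (hermForm n F 2 u w)⁻¹
      replace hc : c ^ 2 = (hermForm n F 2 u w)⁻¹ := hc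
      refine ⟨c, fun h => ?_, ?_⟩
      · rw [h, zero_pow two_ne_zero, eq_comm, inv_eq_zero] at hc
        exact ha hc
      · rw [hc, inv_mul_cancel₀ ha, one_pow, U2.add_self hF]
  have hne : u + c • w ≠ 0 := fun h => by
    have h2 := Fintype.linearIndependent_iff.1 hf' ![1, c] (by simpa [Fin.sum_univ_two] using h) 0
    simp at h2
  refine hno _ (W.add_mem (f 0).2 (W.smul_mem c (f 1).2)) hne ?_
  show hermForm n F 2 (u + c • w) (u + c • w) = 0
  have h4 : c ^ 3 = 1 := U2.cube hF hc0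
  rw [h_add_left, h_add_right hF, h_add_right hF]
  simp only [h_smul_left, h_smul_right hF, hone u (f 0).2 hu0, hone w (f 1).2 hw0, h_symm hF u w]
  have h5 : c ^ 4 = c := by linear_combination c * h4
  linear_combination hc + h4 + U2.add_self hF (1 : F) - hermForm n F 2 u w ^ 2 * h5

/-- Every involution fixes the centre of a transvection. -/
theorem su_fixed (hn : 4 ≤ n) (A : SU n F 2) (h : A * A = 1) :
    ∃ v, v ≠ 0 ∧ hermForm n F 2 v v = 0 ∧ suMat A *ᵥ v = v := by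
  let N : (Fin n → F) →ₗ[F] (Fin n → F) := (suMat A).mulVecLin + LinearMap.id
  have hle : LinearMap.range N ≤ LinearMap.ker N := by
    rintro _ ⟨x, rfl⟩
    show suMat A *ᵥ (suMat A *ᵥ x + x) + (suMat A *ᵥ x + x) = 0
    rw [mulVec_add, ← suMat_mulVec_mul, h, suMat_one, one_mulVec]
    funext i
    simp only [Pi.add_apply, Pi.zero_apply]
    linear_combination U2.add_self hF ((suMat A *ᵥ x) i + x i)
  have h1 := LinearMap.finrank_range_add_finrank_ker N
  have h2 := Submodule.finrank_mono hle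
  rw [Module.finrank_fintype_fun_eq_card, Fintype.card_fin] at h1
  obtain ⟨v, hv, hv0, hvv⟩ := exists_isotropic_of_two hF (W := LinearMap.ker N) (by omega)
  refine ⟨v, hv0, hvv, ?_⟩
  have hv' : suMat A *ᵥ v + v = 0 := hv
  calc suMat A *ᵥ v = suMat A *ᵥ v + (v + v) := by rw [U2.vec_add_self hF, add_zero]
    _ = v := by rw [← add_assoc, hv', zero_add]

theorem psu_fixed (hn : 4 ≤ n) (y : PSU n F 2) (hy : y * y = 1) :
    ∃ t ∈ H34.FiM4.tCls n F, y * t * y⁻¹ = t := by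
  obtain ⟨B, rfl⟩ := QuotientGroup.mk_surjective y
  rw [← QuotientGroup.mk_mul, QuotientGroup.eq_one_iff] at hy
  have hcube := H34.FiM4.center_cube hF (show 2 ≤ n by omega) hy
  have hBA : (QuotientGroup.mk (B * B * B) : PSU n F 2) = QuotientGroup.mk B := by
    rw [QuotientGroup.mk_mul, (QuotientGroup.eq_one_iff (B * B)).2 hy, one_mul]
  obtain ⟨v, hv0, hvv, hv⟩ := su_fixed hF hn (B * B * B) (by
    calc B * B * B * (B * B * B) = (B * B) ^ 3 := by
          simp only [pow_succ, pow_zero, one_mul, mul_assoc]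
      _ = 1 := hcube)
  obtain ⟨T, hT⟩ := U2.exists_tr hF hv0 hvv
  refine ⟨QuotientGroup.mk T, ⟨T, ⟨v, hT⟩, rfl⟩, ?_⟩
  have hconj := U2.tr_conj hF hT (B * B * B)
  rw [hv] at hconj
  rw [← hBA, ← QuotientGroup.mk_mul, ← QuotientGroup.mk_inv, ← QuotientGroup.mk_mul,
    U2.tr_unique hF hconj hT]

omit hF in
theorem no_shift_of_fixed {B : Type*} [Group B] (e : X ≃* B) {g : X}
    (h : ∃ t ∈ e '' E, e g * t * (e g)⁻¹ = t) : ¬ H88.Disc.IsShift E g := by
  rintro ⟨-, hs⟩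
  obtain ⟨_, ⟨a, ha, rfl⟩, ht⟩ := h
  rw [← map_inv, ← map_mul, ← map_mul] at ht
  exact (hs a ha).1 (e.injective ht)

end H34.Disc

namespace H34.Disc

universe v

/-- No shifts in the plain families. -/
theorem plain : H88.Disc.PlainStmt.{v} := by
  intro X _ _ E hX g hg
  have hsq : ∀ {B : Type} [Group B] (e : X ≃* B), e g * e g = 1 := fun e => by
    rw [← map_mul, hg.1, map_one]
  rcases hX with ⟨n, hn, e, he⟩ | ⟨m, hm, e, he⟩ | ⟨n, hn, F, _, _, hF, e, he⟩
  · obtain ⟨τ, hτ, hfix⟩ := sym_fixed hn (e g) (hsq e)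
    exact no_shift_of_fixed e ⟨τ, he ▸ hτ, hfix⟩ hg
  · obtain ⟨v, hv0, hfix⟩ := sp_fixed (show 1 ≤ m by omega) (e g) (hsq e)
    exact no_shift_of_fixed e ⟨_, he ▸ (Cfsg.Agent.S0440.rank_one_iff _).2 ⟨v, hv0, rfl⟩, hfix⟩ hg
  · have hF' : Fintype.card F = 2 ^ 2 := by rw [hF]; rfl
    obtain ⟨t, ht, hfix⟩ := psu_fixed hF' hn (e g) (hsq e)
    rw [H34.FiM4.tCls_eq hF'] at ht
    exact no_shift_of_fixed e ⟨t, he ▸ ht, hfix⟩ hg

end H34.Disc
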